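import Cfsg.Agent.H834.E8.NoFix
import Cfsg.Agent.H597.BrInv
import Cfsg.Agent.H953.Rank
import Mathlib
import Cfsg.Agent.H540.E8C.Centre
import Cfsg.Agent.H942.E8Val
import Cfsg.Agent.Prune
set_option linter.all false

section
prune_inst 0x7f00000000000000000000000000000000000000000000000000000000000000000000000000000000000000000000000000000000000000000000000000000000000000000000000000000000000000003fffffffffffffffffffffffffffbeffbdffffffff

-- part: H451/L7/Dim
section
set_option linter.all false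
open scoped Cfsg.Agent.FastGrp

/-!
# S5920, task DIM: Brauer character values and fixed spaces over `F₃` (helper451)

* `finrank_fix` : the dimension of the fixed space of a group of order invertible in `K` is the rank of the sum of the
  matrices;
* `dim` : `Cfsg.Agent.H942.L7.Dim`.
-/

set_option autoImplicit false

namespace Cfsg.Agent.H451.L7

open Cfsg Cfsg.Lie Cfsg.Agent.H657 IsLocalRing Module
open Cfsg.Agent.H942.E8Alc

/-- **The fixed space is the range of the sum of the matrices.** -/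
theorem finrank_fix {K ι P : Type*} [Field K] [Fintype ι] [DecidableEq ι] [Group P] [Fintype P]
    (A : P →* Matrix ι ι K) (hc : (Fintype.card P : K) ≠ 0) (W : Submodule K (ι → K))
    (hW : ∀ v, v ∈ W ↔ ∀ g, (A g).mulVec v = v) : finrank K W = (∑ g, A g).rank := by
  have h : W = LinearMap.range (∑ g, A g).mulVecLin := by
    ext v
    rw [hW]
    constructor
    · intro hv
      refine ⟨(Fintype.card P : K)⁻¹ • v, ?_⟩
      rw [Matrix.mulVecLin_apply, Matrix.mulVec_smul, Matrix.sum_mulVec, Finset.sum_congr rfl fun g _ => hv g,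
        Finset.sum_const, Finset.card_univ, ← Nat.cast_smul_eq_nsmul K, smul_smul, inv_mul_cancel₀ hc, one_smul]
    · rintro ⟨w, rfl⟩ g
      rw [Matrix.mulVecLin_apply, Matrix.mulVec_mulVec, Finset.mul_sum]
      congr 1
      refine Fintype.sum_equiv (Equiv.mulLeft g) _ _ fun x => ?_
      rw [Equiv.coe_mulLeft, map_mul]
  rw [h]
  rfl

/-- the subgroup given by a list -/
def grp {Q : Type*} [Group Q] (L : List Q) (h1 : (1 : Q) ∈ L) (hm : ∀ a ∈ L, ∀ b ∈ L, a * b ∈ L) : Subgroup Q where
  carrier := {g | g ∈ L}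
  one_mem' := h1
  mul_mem' := fun ha hb => hm _ ha _ hb
  inv_mem' := by
    classical
    intro a ha
    let f : {g // g ∈ L.toFinset} → {g // g ∈ L.toFinset} := fun b =>
      ⟨a * b, List.mem_toFinset.2 (hm _ ha _ (List.mem_toFinset.1 b.2))⟩
    have hf : Function.Injective f := by
      intro b c hbc
      exact Subtype.ext (mul_left_cancel (congrArg Subtype.val hbc))
    obtain ⟨b, hb⟩ := (Finite.injective_iff_surjective.1 hf) ⟨1, List.mem_toFinset.2 h1⟩
    have h2 : a * (b : Q) = 1 := congrArg Subtype.val hb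
    have h3 : a⁻¹ = b := inv_eq_of_mul_eq_one_right h2
    show a⁻¹ ∈ L
    rw [h3]
    exact List.mem_toFinset.1 b.2

/-- **Task DIM.** -/
theorem dim : Cfsg.Agent.H942.L7.Dim := by
  intro M V hM hV hch Q _ F L hnd h1 hm hco
  classical
  set P := grp L h1 hm with hP
  have hmem : ∀ g, g ∈ P ↔ g ∈ L.toFinset := fun g => (List.mem_toFinset (l := L) (a := g)).symm
  have hfin : Fintype P := Fintype.ofEquiv {g // g ∈ L.toFinset} (Equiv.subtypeEquivRight fun g => (hmem g).symm)
  have hcard : Fintype.card P = L.length := by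
    rw [← Nat.card_eq_fintype_card, Nat.card_congr (Equiv.subtypeEquivRight hmem : P ≃ {g // g ∈ L.toFinset}),
      Nat.card_eq_fintype_card (α := {g // g ∈ L.toFinset}), Fintype.card_coe, List.toFinset_card_of_nodup hnd]
  have hsum : ∀ f : Q → ℂ, ∑ g : P, f g = (L.map f).sum := by
    intro f
    rw [← List.sum_toFinset f hnd, ← Finset.sum_coe_sort L.toFinset f]
    exact Fintype.sum_equiv (Equiv.subtypeEquivRight hmem) _ _ fun x => rfl
  let σ : Representation (ResidueField V) P (chevE8.Idx → ResidueField V) := (adj V F).comp P.subtype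
  have hC := Cfsg.Agent.H597.BrInv.C hM hV (P := P) (by rw [hcard]; exact hco) σ
  have hbc : ∀ g : P, bc 3 σ g = bc 3 (adj V F) (g : Q) := fun g => rfl
  rw [Finset.sum_congr rfl fun g _ => hbc g, hsum (fun g => bc 3 (adj V F) g), hcard] at hC
  rw [hC]
  congr 2
  -- the ranks
  have hc3 : ∀ (K : Type) [Field K] [CharP K 3], (Fintype.card P : K) ≠ 0 := by
    intro K _ _ h
    rw [CharP.cast_eq_zero_iff K 3, hcard] at h
    exact (Nat.prime_three.coprime_iff_not_dvd.1 hco.symm) h
  let A : P →* Matrix chevE8.Idx chevE8.Idx (ZMod 3) :=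
    (Units.coeHom (Matrix chevE8.Idx chevE8.Idx (ZMod 3))).comp
      (((chevE8.group (ZMod 3)).subtype.comp F).comp P.subtype)
  have hA : ∀ g : P, A g = (((F g : ↥(chevE8.group (ZMod 3))) : GL chevE8.Idx (ZMod 3)) :
    Matrix chevE8.Idx chevE8.Idx (ZMod 3)) := fun g => rfl
  let B : P →* Matrix chevE8.Idx chevE8.Idx (ResidueField V) :=
    ((RingHom.mapMatrix (algebraMap (ZMod 3) (ResidueField V)) :
      Matrix chevE8.Idx chevE8.Idx (ZMod 3) →+* Matrix chevE8.Idx chevE8.Idx (ResidueField V)) :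
      Matrix chevE8.Idx chevE8.Idx (ZMod 3) →* Matrix chevE8.Idx chevE8.Idx (ResidueField V)).comp A
  have hB : ∀ g : P, B g = (A g).map (algebraMap (ZMod 3) (ResidueField V)) := fun g => rfl
  have e1 : finrank (ZMod 3) ↥(Cfsg.Agent.H942.L7.fixL F L) = (∑ g, A g).rank := by
    refine finrank_fix A (hc3 (ZMod 3)) _ fun v => ?_
    constructor
    · intro hv g
      rw [hA]
      exact hv g g.2
    · intro hv g hg
      exact hv ⟨g, hg⟩
  have e2 : finrank (ResidueField V) σ.invariants = (∑ g, B g).rank := by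
    refine finrank_fix B ?_ _ fun v => ?_
    · intro h
      rw [CharP.cast_eq_zero_iff (ResidueField V) 3, hcard] at h
      exact (Nat.prime_three.coprime_iff_not_dvd.1 hco.symm) h
    · exact Iff.rfl
  rw [e1, e2, Finset.sum_congr rfl fun g _ => hB g, ← Cfsg.Agent.H953.rank_map (algebraMap (ZMod 3) (ResidueField V))]
  congr 1
  ext i j
  simp only [Matrix.map_apply, Matrix.sum_apply, map_sum]

end Cfsg.Agent.H451.L7
end

-- part: H942/CB/Spec
section
set_option linter.all false
open scoped Cfsg.Agent.FastGrp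

/-!
# Elements of `E₈(3)` of order prime to 3: Brauer character and torus data for the same alcove vector
-/

set_option autoImplicit false
set_option linter.unusedSectionVars false
set_option maxRecDepth 100000

namespace Cfsg.Agent.H942.CB

open Cfsg Cfsg.Lie Cfsg.Lie.ChevalleyDatum
open Cfsg.Agent.ChevalleyStructure Cfsg.Agent.ChevalleyStructure.CoxeterGeomTypes
open Cfsg.Agent.H942.E8Tab Cfsg.Agent.H942.E8Alc Cfsg.Agent.H942.ValsChar
open Cfsg.Agent.H944.RootVals Cfsg.Agent.H944.Tab Cfsg.Agent.H944.Kac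
open Cfsg.Agent.H657 IsLocalRing Module

/-- every vector can be moved into the alcove, with the same multiset of root values and torus data -/
theorem exists_alcT {N : ℕ} (hN : 0 < N) {x : ↥(chevE8.group (ZMod 3))} (v : Fin 8 → ZMod N) (hv : TorD e8T x N v) :
    ∃ Y : List ℕ, Y.length = 8 ∧ dotN th8 Y ≤ N ∧ ms chevE8 8 (vecL N Y) = ms chevE8 8 v ∧
      TorD e8T x N (vecL N Y) := by
  have : NeZero N := ⟨hN.ne'⟩
  let P : (Fin 8 → ZMod N) → Prop := fun w => ms chevE8 8 w = ms chevE8 8 v ∧ TorD e8T x N w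
  have hPs : ∀ w j, P w → P (srefl chevE8 8 j w) := by
    intro w j hw
    refine ⟨?_, hw.2.srefl e8T 3 j⟩
    rw [ms_srefl e8T]
    exact hw.1
  obtain ⟨y, hy, hθ⟩ := exists_alcove e8T (N := N) hN _ _ 60 (by norm_num) theta8
    (by decide) _ pos8 P hPs (v₀ := v) ⟨rfl, hv⟩
  let Y : List ℕ := List.ofFn y
  have hY : ∀ i : Fin 8, Y.getD i 0 = y i := by
    intro i
    rw [List.getD_eq_getElem _ _ (by rw [List.length_ofFn]; exact i.2), List.getElem_ofFn]
  have hYv : vecL N Y = fun i => ((y i : ℕ) : ZMod N) := by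
    funext i
    unfold vecL
    rw [hY]
  refine ⟨Y, by simp [Y], ?_, ?_, ?_⟩
  · rw [dotN_eq 8 th8 Y (by decide)]
    have h2 : ∑ i : Fin 8, th8.getD i 0 * Y.getD i 0 = ∑ i : Fin 8, th8.getD i 0 * y i :=
      Finset.sum_congr rfl fun i _ => by rw [hY]
    rw [h2]
    simp only [Fin.sum_univ_eight, Matrix.cons_val] at hθ ⊢
    simp only [th8, List.getD_cons_zero, List.getD_cons_succ, Fin.val_zero, Fin.val_one, Fin.val_two] at hθ ⊢
    norm_num at hθ ⊢
    omega
  · rw [hYv]
    exact hy.1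
  · rw [hYv]
    exact hy.2

variable {V : ValuationSubring ℂ} [CharP (ResidueField V) 3] {G : Type*} [Group G]
  (F : G →* ↥(chevE8.group (ZMod 3)))

theorem exists_specT {g : G} {N : ℕ} (hN0 : N ≠ 0) (hN : N.Coprime 3) (hg : g ^ N = 1) :
    ∃ (Y : List ℕ) (ξ : ℂ), Spec V F g N Y ξ ∧ TorD e8T (F g) N (vecL N Y) := by
  have : IsAlgClosed (ResidueField V) := Above.isAlgClosed V
  obtain ⟨v, hvT, hv, ζ, hζ, hchar⟩ := exists_valsTor e8T 3 (F := ZMod 3) (x := F g) (N := N) hN0 hN
    (by rw [← map_pow, hg, map_one]) (ResidueField V)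
  obtain ⟨Y, hY1, hY2, hY3, hY4⟩ := exists_alcT (Nat.pos_of_ne_zero hN0) v hvT
  have h3N : ¬ 3 ∣ N := by
    intro h
    have := Nat.dvd_gcd h (dvd_refl 3)
    rw [hN] at this
    omega
  have hRU : IsRU 3 ζ := ⟨N, h3N, hζ.pow_eq_one⟩
  refine ⟨Y, lift 3 ζ, ⟨hY1, hY2, lift_primitive h3N hζ, ?_, ?_, ?_, ?_⟩, hY4⟩
  · intro d
    unfold Cfsg.Agent.H657.bc
    rw [adj_charpoly, map_pow, hchar d, Polynomial.roots_mul, Polynomial.roots_pow, Polynomial.roots_X_sub_C,
      Multiset.map_add, Multiset.sum_add, hY3]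
    · congr 1
      · rw [Multiset.map_nsmul, Multiset.map_singleton, lift_one, Multiset.sum_nsmul, Multiset.sum_singleton]
        show (8 : ℕ) • (1 : ℂ) = 8
        simp
      · rw [show (ms chevE8 8 v).map (fun a => Polynomial.X - Polynomial.C (ζ ^ (((d : ZMod N) * a).val))) =
          ((ms chevE8 8 v).map (fun a => ζ ^ (((d : ZMod N) * a).val))).map
            (fun r => Polynomial.X - Polynomial.C r) by
            rw [Multiset.map_map]; rfl,
          Polynomial.roots_multiset_prod_X_sub_C, Multiset.map_map]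
        congr 1
        refine Multiset.map_congr rfl fun a _ => ?_
        exact lift_pow hRU _
    · refine mul_ne_zero (pow_ne_zero _ (Polynomial.X_sub_C_ne_zero _)) ?_
      refine Multiset.prod_ne_zero fun h => ?_
      rw [Multiset.mem_map] at h
      obtain ⟨a, -, ha⟩ := h
      exact Polynomial.X_sub_C_ne_zero _ ha
  · rw [hY3]
    have := hv.frob
    rwa [Nat.card_zmod] at this
  · intro d
    rw [hY3, mem_ms_iff, hv.ord, map_pow]
  · intro a ha
    rw [hY3]
    exact hv.conj a ha

end Cfsg.Agent.H942.CB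
end

-- part: H296/L7/Lin
section
set_option linter.all false
open scoped Cfsg.Agent.FastGrp

/-!
# Linear algebra for `RepH` (S5920)

* `eig S τ c` : the vectors `v` of `S` with `τ v = c v`; `split` : an involution splits a subspace;
* `ineq` : `2 dim P ≤ dim M + 3 dim (P ∩ ker d)`, `d : P → M → P` skew with `d ^ 3 = 0`, the form nondegenerate on `M`;
* `inj_le` : counting; `tr_proj` : the trace of a projection; `tr_nil` : the trace of a nilpotent map.
-/

set_option autoImplicit false

namespace Cfsg.Agent.H296.L7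

open Module

section Lin

variable {K V : Type*} [Field K] [AddCommGroup V] [Module K V] [Module.Finite K V]

/-- the part of `S` where `τ = c` -/
def eig (S : Submodule K V) (τ : V →ₗ[K] V) (c : K) : Submodule K V := S ⊓ LinearMap.ker (τ - c • LinearMap.id)

omit [Module.Finite K V] in
theorem mem_eig {S : Submodule K V} {τ : V →ₗ[K] V} {c : K} {v : V} : v ∈ eig S τ c ↔ v ∈ S ∧ τ v = c • v := by
  simp [eig, sub_eq_zero]

/-- **splitting by an involution** -/
theorem split (h2 : (2 : K) ≠ 0) (S : Submodule K V) (τ : V →ₗ[K] V) (hτ : ∀ v ∈ S, τ v ∈ S)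
    (hτ2 : ∀ v ∈ S, τ (τ v) = v) : finrank K (eig S τ 1) + finrank K (eig S τ (-1)) = finrank K S := by
  rw [← Submodule.finrank_sup_add_finrank_inf_eq]
  have h1 : eig S τ 1 ⊓ eig S τ (-1) = ⊥ := by
    rw [eq_bot_iff]
    rintro v ⟨h3, h4⟩
    have h5 := (mem_eig.1 h3).2
    have h6 := (mem_eig.1 h4).2
    rw [h5, one_smul, neg_smul, one_smul] at h6
    have h7 : (2 : K) • v = 0 := by
      rw [two_smul]
      nth_rewrite 1 [h6]
      exact neg_add_cancel v
    exact (Submodule.mem_bot K).2 ((smul_eq_zero.1 h7).resolve_left h2)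
  have h3 : eig S τ 1 ⊔ eig S τ (-1) = S := by
    apply le_antisymm
    · exact sup_le inf_le_left inf_le_left
    · intro v hv
      rw [Submodule.mem_sup]
      refine ⟨(2 : K)⁻¹ • (v + τ v), mem_eig.2 ⟨S.smul_mem _ (S.add_mem hv (hτ v hv)), ?_⟩,
        (2 : K)⁻¹ • (v - τ v), mem_eig.2 ⟨S.smul_mem _ (S.sub_mem hv (hτ v hv)), ?_⟩, ?_⟩
      · rw [map_smul, map_add, hτ2 v hv, one_smul, add_comm]
      · rw [map_smul, map_sub, hτ2 v hv, neg_smul, one_smul, ← smul_neg, neg_sub]
      · rw [← smul_add, add_add_sub_cancel, ← two_smul K v, smul_smul, inv_mul_cancel₀ h2, one_smul]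
  rw [h1, h3, finrank_bot, add_zero]

/-- rank and nullity on a subspace -/
theorem rk (f : V →ₗ[K] V) (S : Submodule K V) :
    finrank K (S.map f) + finrank K ↥(S ⊓ LinearMap.ker f) = finrank K S := by
  have h := LinearMap.finrank_range_add_finrank_ker (f.domRestrict S)
  rw [LinearMap.range_domRestrict] at h
  have h2 : finrank K (LinearMap.ker (f.domRestrict S)) = finrank K ↥(S ⊓ LinearMap.ker f) := by
    have e : LinearMap.ker (f.domRestrict S) = (S ⊓ LinearMap.ker f).comap S.subtype := by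
      ext x
      simp
    rw [e]
    exact LinearEquiv.finrank_eq (Submodule.comapSubtypeEquivOfLe inf_le_left)
  rw [← h2]
  exact h

/-- **the inequality of the skew operator** -/
theorem ineq (B : LinearMap.BilinForm K V) (hB : B.Nondegenerate) (hs : B.IsSymm) (P M : Submodule K V)
    (d : V →ₗ[K] V) (hPM : ∀ v ∈ P, d v ∈ M) (hMP : ∀ v ∈ M, d v ∈ P) (h3 : ∀ v ∈ P, d (d (d v)) = 0)
    (hsk : ∀ u ∈ M, ∀ v ∈ P, B u (d v) = - B (d u) v) (hM : ∀ u ∈ M, (∀ v ∈ M, B u v = 0) → u = 0) :
    2 * finrank K P ≤ finrank K M + 3 * finrank K ↥(P ⊓ LinearMap.ker d) := by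
  have e1 := rk d P
  have e2 := rk d (P.map d)
  have hX : P.map d ≤ M := by
    rintro _ ⟨v, hv, rfl⟩
    exact hPM v hv
  have i1 : finrank K ↥((P.map d).map d) ≤ finrank K ↥(P ⊓ LinearMap.ker d) := by
    apply Submodule.finrank_mono
    rintro _ ⟨x, hx, rfl⟩
    refine ⟨hMP x (hX hx), ?_⟩
    obtain ⟨v, hv, rfl⟩ := hx
    exact LinearMap.mem_ker.2 (h3 v hv)
  have i2 : finrank K ↥(P.map d ⊓ LinearMap.ker d) ≤ finrank K ↥(M ⊓ LinearMap.ker d) :=
    Submodule.finrank_mono (inf_le_inf_right _ hX)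
  have i3 : finrank K ↥(M ⊓ LinearMap.ker d) + finrank K ↥(P.map d) ≤ finrank K M := by
    have f1 := LinearMap.BilinForm.finrank_orthogonal hB M
    have f2 := LinearMap.BilinForm.finrank_orthogonal hB (P.map d)
    have g1 : M ⊓ LinearMap.ker d ≤ B.orthogonal (P.map d) := by
      rintro k ⟨hk, hk0⟩
      rw [LinearMap.BilinForm.mem_orthogonal_iff]
      rintro _ ⟨v, hv, rfl⟩
      show B (d v) k = 0
      rw [hs.eq (d v) k, hsk k hk v hv, LinearMap.mem_ker.1 hk0]
      simp
    have g2 : B.orthogonal M ≤ B.orthogonal (P.map d) := LinearMap.BilinForm.orthogonal_le hX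
    have g3 : (M ⊓ LinearMap.ker d) ⊓ B.orthogonal M = ⊥ := by
      rw [eq_bot_iff]
      rintro k ⟨hk, hk0⟩
      refine (Submodule.mem_bot K).2 (hM k hk.1 fun v hv => ?_)
      rw [hs.eq]
      exact LinearMap.BilinForm.mem_orthogonal_iff.1 hk0 v hv
    have g4 := Submodule.finrank_sup_add_finrank_inf_eq (M ⊓ LinearMap.ker d) (B.orthogonal M)
    rw [g3, finrank_bot, add_zero] at g4
    have g5 := Submodule.finrank_mono (sup_le g1 g2)
    have g6 := Submodule.finrank_le M
    have g7 := Submodule.finrank_le (P.map d)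
    omega
  omega

/-- counting -/
theorem inj_le (S₁ S₂ T : Submodule K V) (f g : V →ₗ[K] V) (h : ∀ v ∈ S₁, ∀ a ∈ S₂, f v + g a ∈ T)
    (hi : ∀ v ∈ S₁, ∀ a ∈ S₂, f v + g a = 0 → v = 0 ∧ a = 0) :
    finrank K S₁ + finrank K S₂ ≤ finrank K T := by
  let F : ↥S₁ × ↥S₂ →ₗ[K] ↥T :=
    { toFun := fun x => ⟨f x.1 + g x.2, h x.1 x.1.2 x.2 x.2.2⟩
      map_add' := fun x y => by
        apply Subtype.ext
        simp only [Prod.fst_add, Prod.snd_add, Submodule.coe_add, map_add]
        abel
      map_smul' := fun c x => by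
        apply Subtype.ext
        simp }
  have hF : Function.Injective F := by
    rw [← LinearMap.ker_eq_bot, eq_bot_iff]
    rintro ⟨v, a⟩ hx
    have h1 : f v + g a = 0 := congrArg Subtype.val (LinearMap.mem_ker.1 hx)
    obtain ⟨h2, h3⟩ := hi v v.2 a a.2 h1
    exact (Submodule.mem_bot K).2 (Prod.ext (Subtype.ext h2) (Subtype.ext h3))
  have h1 := LinearMap.finrank_le_finrank_of_injective hF
  rwa [finrank_prod] at h1

/-- the trace of a projection -/
theorem tr_proj (p : V →ₗ[K] V) (S : Submodule K V) (h1 : ∀ x, p x ∈ S) (h2 : ∀ x ∈ S, p x = x) :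
    LinearMap.trace K V p = (finrank K S : K) :=
  LinearMap.IsProj.trace ⟨h1, h2⟩

omit [Module.Finite K V] in
/-- the trace of a nilpotent map -/
theorem tr_nil (f : V →ₗ[K] V) (k : ℕ) (h : f ^ k = 0) : LinearMap.trace K V f = 0 :=
  (LinearMap.isNilpotent_trace_of_isNilpotent ⟨k, h⟩).eq_zero

end Lin

end Cfsg.Agent.H296.L7

private theorem dce_4252a0569cd7 : _root_.True := by
  try have : _root_.True := by simp only [_root_.Cfsg.Agent.H296.L7.eig.eq_1]
  exact _root_.True.intro
end

-- part: H942/L7/Val7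
section
set_option linter.all false
open scoped Cfsg.Agent.FastGrp

/-!
# Elements of order 7 of `E₈(3)`
-/

set_option autoImplicit false
set_option linter.unusedSectionVars false
set_option maxRecDepth 100000

namespace Cfsg.Agent.H942.L7

open Cfsg Cfsg.Lie Cfsg.Lie.ChevalleyDatum
open Cfsg.Agent.ChevalleyStructure Cfsg.Agent.ChevalleyStructure.CoxeterGeomTypes
open Cfsg.Agent.H942.E8Tab Cfsg.Agent.H942.E8Alc Cfsg.Agent.H942.ValsChar Cfsg.Agent.H942.E8Val
open Cfsg.Agent.H944.RootVals Cfsg.Agent.H944.Tab Cfsg.Agent.H944.Kac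
open Cfsg.Agent.H657 IsLocalRing Module

theorem check7 : allAlc th8 7 (fun Y => bif invB 7 3 R8 Y then decide (cnt 7 1 0 Y ∈ [15, 36, 120]) else true) =
    true := by
  decide +kernel

theorem gen7 : ∀ u : ZMod 7, u ≠ 0 → ∃ k < 6, u = (3 : ZMod 7) ^ k := by decide

/-- **Elements of order dividing 7.** -/
theorem val7 (V : ValuationSubring ℂ) [CharP (ResidueField V) 3] {G : Type*} [Group G]
    (F : G →* ↥(chevE8.group (ZMod 3))) {g : G} (hg : g ^ 7 = 1) (hne : F g ≠ 1) :
    ∃ t : ℤ, (t = 3 ∨ t = 52) ∧ (∀ d : ℕ, ¬ 7 ∣ d → bc 3 (adj V F) (g ^ d) = t) := by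
  have : Fact (Nat.Prime 7) := ⟨by norm_num⟩
  obtain ⟨Y, ξ, h⟩ := exists_spec (V := V) F (N := 7) (by norm_num) (by norm_num) hg
  have h1 := allAlc_spec th8 7 _ (by decide) check7 Y h.len h.alc
  have h2 : invB 7 3 R8 Y = true := invB_of (by norm_num) tab8 len8 h.frob
  rw [h2, cond_true, decide_eq_true_iff] at h1
  have hus : ∀ u : ZMod 7, u ≠ 0 → ms chevE8 8 (vecL 7 Y) = (ms chevE8 8 (vecL 7 Y)).map (fun a => u * a) := by
    intro u hu
    obtain ⟨k, -, hk⟩ := gen7 u hu
    rw [hk]
    exact map_mul_pow h.frob k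
  have hval : ∀ d : ℕ, ¬ 7 ∣ d → 6 * bc 3 (adj V F) (g ^ d) = 14 * (cnt 7 1 0 Y : ℂ) - 192 := by
    intro d hd
    have := bc_prime h hus hd
    push_cast at this
    linear_combination this
  have hcard := ord_prime h
  simp only [List.mem_cons, List.not_mem_nil, or_false] at h1
  rcases h1 with h1 | h1 | h1
  · refine ⟨3, by simp, fun d hd => ?_⟩
    have := hval d hd
    rw [h1] at this
    push_cast at this ⊢
    linear_combination this / 6
  · refine ⟨52, by simp, fun d hd => ?_⟩
    have := hval d hd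
    rw [h1] at this
    push_cast at this ⊢
    linear_combination this / 6
  · exact absurd (hcard.2 h1) hne

end Cfsg.Agent.H942.L7
end
end
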